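import Mathlib.CategoryTheory.Adjunction.Evaluation
import Mathlib.CategoryTheory.Limits.MonoCoprod
import Mathlib.CategoryTheory.Abelian.Basic
import Mathlib.CategoryTheory.Preadditive.Injective.Basic
import Mathlib.CategoryTheory.Limits.Shapes.Biproducts

/-!
# Injective inverse systems
-/

set_option autoImplicit false

universe v u

open CategoryTheory CategoryTheory.Limits Opposite

namespace Groth.Agent.MiscTwoH99.TowerLim

variable {A : Type u} [Category.{v} A] [Abelian A]

instance finite_hom (a b : ℕᵒᵖ) : Finite (a ⟶ b) := Finite.of_subsingleton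

instance hasCoproducts_hom (a b : ℕᵒᵖ) : HasCoproductsOfShape (a ⟶ b) A :=
  haveI := Abelian.hasFiniteBiproducts (C := A)
  inferInstance

set_option backward.defeqAttrib.useBackward true in
set_option backward.isDefEq.respectTransparency false in
/-- The components of an injective inverse system are injective. -/
theorem injective_obj (F : ℕᵒᵖ ⥤ A) [Injective F] (n : ℕᵒᵖ) : Injective (F.obj n) := by
  haveI : (evaluationLeftAdjoint A n : A ⥤ (ℕᵒᵖ ⥤ A)).PreservesMonomorphisms := ⟨fun {M N} g _ => by
    refine @NatTrans.mono_of_mono_app _ _ _ _ _ _ _ fun t => ?_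
    simp only [evaluationLeftAdjoint_map_app]
    have : (Sigma.desc fun h : n ⟶ t => g ≫ Sigma.ι (fun _ : n ⟶ t => N) h) =
        Limits.Sigma.map fun _ : n ⟶ t => g := by
      apply Sigma.hom_ext
      intro h
      simp
    rw [this]
    haveI := Abelian.hasFiniteBiproducts (C := A)
    infer_instance⟩
  exact (evaluationAdjunctionRight A n).map_injective F ‹_›

set_option backward.defeqAttrib.useBackward true in
set_option backward.isDefEq.respectTransparency false in
/-- The transition maps of an injective inverse system are split epimorphisms. -/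
theorem exists_section (F : ℕᵒᵖ ⥤ A) [Injective F] {a b : ℕᵒᵖ} (f : a ⟶ b) :
    ∃ s : F.obj b ⟶ F.obj a, s ≫ F.map f = 𝟙 _ := by
  let M := F.obj b
  let τ : (evaluationLeftAdjoint A b).obj M ⟶ (evaluationLeftAdjoint A a).obj M :=
    { app := fun t => Sigma.map' (fun g : b ⟶ t => f ≫ g) (fun _ => 𝟙 M)
      naturality := fun t t' k => by
        dsimp
        apply Sigma.hom_ext
        intro g
        simp }
  haveI : Mono τ := by
    refine @NatTrans.mono_of_mono_app _ _ _ _ _ _ _ fun t => ?_
    exact MonoCoprod.mono_map'_of_injective (fun _ : a ⟶ t => M) (fun g : b ⟶ t => f ≫ g)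
      (fun g g' _ => Subsingleton.elim g g')
  let φ : (evaluationLeftAdjoint A b).obj M ⟶ F :=
    ((evaluationAdjunctionRight A b).homEquiv M F).symm (𝟙 M)
  let ψ := Injective.factorThru φ τ
  have hψ : τ ≫ ψ = φ := Injective.comp_factorThru _ _
  refine ⟨Sigma.ι (fun _ : a ⟶ a => M) (𝟙 a) ≫ ψ.app a, ?_⟩
  have hn := ψ.naturality f
  have h1 : Sigma.ι (fun _ : b ⟶ b => M) (𝟙 b) ≫ φ.app b = 𝟙 M :=
    (congrArg (fun z => z) (show Sigma.ι (fun _ : b ⟶ b => M) (𝟙 b) ≫ φ.app b = 𝟙 M by
      simp [φ, evaluationAdjunctionRight, M]))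
  rw [Category.assoc, ← hn, ← h1, ← hψ]
  simp [τ]

end Groth.Agent.MiscTwoH99.TowerLim
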