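import Groth.Agent.QCoh.ToSheaf
import Groth.Agent.SiteBase.Top
import Mathlib.Algebra.Category.ModuleCat.Presheaf.Generator
import Mathlib.Algebra.Category.ModuleCat.Sheaf.Limits
import Mathlib.Topology.Sheaves.LocallySurjective

/-!
# Sections of injective modules, local exactness, acyclic resolutions
-/

set_option autoImplicit false
set_option linter.style.haveILetI false

universe u

open CategoryTheory CategoryTheory.Limits Opposite TopologicalSpace

namespace Groth.Agent.MiscTwoH99.TowerLim

variable {X : TopCat.{u}} {R : Sheaf (Opens.grothendieckTopology X) RingCat.{u}}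

/-- Injective sheaves of modules are flasque. -/
theorem isFlasque_of_injective (I : SheafOfModules.{u} R) [Injective I] :
    TopCat.Sheaf.IsFlasque ((SheafOfModules.toSheaf R).obj I : CohTop.Ab X) := by
  let Sh := PresheafOfModules.sheafification.{u} (R := R) (𝟙 R.obj)
  haveI hI : Injective ((SheafOfModules.forget R ⋙ PresheafOfModules.restrictScalars (𝟙 R.obj)).obj I) :=
    (PresheafOfModules.sheafificationAdjunction.{u} (R := R) (𝟙 R.obj)).map_injective I ‹_›
  refine ⟨fun {U V} i => (AddCommGrpCat.epi_iff_surjective _).mpr fun x => ?_⟩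
  let J := (SheafOfModules.forget R ⋙ PresheafOfModules.restrictScalars (𝟙 R.obj)).obj I
  let a : (PresheafOfModules.free R.obj).obj (yoneda.obj V.unop) ⟶ J :=
    PresheafOfModules.freeYonedaEquiv.symm x
  let g := (PresheafOfModules.free R.obj).map (yoneda.map i.unop)
  haveI : Mono g := by
    haveI : ∀ W, Mono (g.app W) := fun W => by
      refine (ModuleCat.mono_iff_injective _).2 ?_
      exact Finsupp.mapDomain_injective (fun f f' _ => Subsingleton.elim (α := W.unop ⟶ V.unop) f f')
    refine ⟨fun {Z} p q h => ?_⟩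
    ext W : 1
    exact (cancel_mono (g.app W)).1 (congrArg (fun (t : Z ⟶ (PresheafOfModules.free R.obj).obj (yoneda.obj U.unop)) => t.app W) h)
  let b := Injective.factorThru a g
  refine ⟨PresheafOfModules.freeYonedaEquiv b, ?_⟩
  have hb : g ≫ b = a := Injective.comp_factorThru _ _
  have ha : PresheafOfModules.freeYonedaEquiv a = x := Equiv.apply_symm_apply _ _
  rw [← ha, ← hb]
  have hnat := PresheafOfModules.naturality_apply b i
    (ModuleCat.freeMk (R := R.obj.obj (op U.unop)) (𝟙 U.unop))
  simp [PresheafOfModules.freeYonedaEquiv, PresheafOfModules.freeHomEquiv, yonedaEquiv] at hnat ⊢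
  refine (hnat.symm.trans ?_)
  refine congrArg (b.app V) ?_
  simp [g, PresheafOfModules.free, PresheafOfModules.freeObj]
  erw [ModuleCat.freeDesc_apply, ModuleCat.free_map_apply]
  simp

/-- A complex of sheaves of modules is exact if cocycles lift locally. -/
theorem exact_of_locally (S : ShortComplex (SheafOfModules.{u} R))
    (h : ∀ (W : Opens X) (s : S.X₂.val.obj (op W)), (S.g.val.app (op W)).hom s = 0 → ∀ x ∈ W,
      ∃ (U : Opens X) (hU : U ≤ W) (t : S.X₁.val.obj (op U)), x ∈ U ∧
        (S.f.val.app (op U)).hom t = S.X₂.val.map (homOfLE hU).op s) : S.Exact := by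
  rw [S.exact_iff_epi_toCycles]
  haveI : (SheafOfModules.toSheaf R).ReflectsEpimorphisms := Functor.reflectsEpimorphisms_of_faithful _
  apply (SheafOfModules.toSheaf R).epi_of_epi_map
  haveI : Sheaf.IsLocallySurjective ((SheafOfModules.toSheaf R).map S.toCycles) := by
    refine ⟨fun {W} z x hx => ?_⟩
    have hz : (S.g.val.app (op W)).hom ((S.iCycles.val.app (op W)).hom z) = 0 := by
      have := congrArg (fun f : S.cycles ⟶ S.X₃ => (f.val.app (op W)).hom z) S.iCycles_g
      exact this
    obtain ⟨U, hU, t, hxU, ht⟩ := h W _ hz x hx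
    refine ⟨U, homOfLE hU, ⟨t, ?_⟩, hxU⟩
    have hinj : Function.Injective (S.iCycles.val.app (op U)).hom := by
      have : Mono ((SheafOfModules.evaluation R (op U)).map S.iCycles) := inferInstance
      exact (ModuleCat.mono_iff_injective _).1 this
    apply hinj
    have h1 := congrArg (fun f : S.X₁ ⟶ S.X₂ => (f.val.app (op U)).hom t) S.toCycles_i
    refine (h1.trans ht).trans ?_
    exact (PresheafOfModules.naturality_apply S.iCycles.val (homOfLE hU).op z).symm
  infer_instance

/-- Sections of an acyclic resolution of an acyclic sheaf are exact. -/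
theorem exact_sections (K : CochainComplex (CohTop.Ab X) ℕ) (hK : ∀ j, K.ExactAt (j + 1))
    (hfl : ∀ j, TopCat.Sheaf.IsFlasque (K.X j : CohTop.Ab X)) {F : CohTop.Ab X}
    (eF : F ≅ kernel (K.d 0 1)) (U : Opens X) (hF : ∀ i, 1 ≤ i → Subsingleton (CohTop.HU F i U))
    (j : ℕ) (s : (K.X (j + 1)).obj.obj (op U)) (hs : ((K.d (j + 1) (j + 2)).hom.app (op U)).hom s = 0) :
    ∃ t, ((K.d j (j + 1)).hom.app (op U)).hom t = s := by
  let Z : ℕ → CohTop.Ab X := fun m => kernel (K.d m (m + 1))
  let S : ∀ m, ShortComplex (CohTop.Ab X) := fun m => ShortComplex.mk (kernel.ι (K.d m (m + 1)))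
    (kernel.lift (K.d (m + 1) (m + 2)) (K.d m (m + 1)) (K.d_comp_d _ _ _))
    ((cancel_mono (kernel.ι _)).1 (by simp))
  have hS : ∀ m, (S m).ShortExact := fun m => by
    have he : (ShortComplex.mk (K.d m (m + 1)) (K.d (m + 1) (m + 2)) (K.d_comp_d _ _ _)).Exact :=
      (K.exactAt_iff' m (m + 1) (m + 2) (by simp) (by simp only [CochainComplex.next]; rfl)).1 (hK m)
    haveI : Epi (S m).g := ((ShortComplex.exact_iff_epi_kernel_lift _).1 he)
    haveI : Mono (S m).f := inferInstanceAs (Mono (kernel.ι _))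
    let S' := ShortComplex.mk (kernel.ι (K.d m (m + 1))) (K.d m (m + 1)) (kernel.condition _)
    let φ : S m ⟶ S' := { τ₁ := 𝟙 _, τ₂ := 𝟙 _, τ₃ := kernel.ι (K.d (m + 1) (m + 2)), comm₁₂ := by simp [S, S'], comm₂₃ := by simp [S, S'] }
    haveI : Epi φ.τ₁ := inferInstanceAs (Epi (𝟙 _))
    haveI : IsIso φ.τ₂ := inferInstanceAs (IsIso (𝟙 _))
    haveI : Mono φ.τ₃ := inferInstanceAs (Mono (kernel.ι _))
    exact ⟨(ShortComplex.exact_iff_of_epi_of_isIso_of_mono φ).2 (ShortComplex.exact_of_f_is_kernel S' (kernelIsKernel _))⟩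
  have hZ : ∀ m i, 1 ≤ i → Subsingleton (CohTop.HU (Z m) i U) := by
    intro m
    induction m with
    | zero =>
      intro i hi
      haveI := hF i hi
      exact ((((Sheaf.cohomologyPresheafFunctor (Opens.grothendieckTopology X) i).mapIso eF).app
        (op U)).addCommGroupIsoToAddEquiv).symm.toEquiv.subsingleton
    | succ m ih =>
      intro i hi
      obtain ⟨i, rfl⟩ : ∃ k, i = k + 1 := ⟨i - 1, by omega⟩
      haveI := hfl m
      have h2 : Subsingleton (CohTop.HU (K.X m : CohTop.Ab X) (i + 1) U) :=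
        SiteBase.subsingleton_HU_of_isFlasque (K.X m) U i
      have h1 : Subsingleton (CohTop.HU (Z m) (i + 2) U) := ih (i + 2) (by omega)
      exact @SiteBase.subsingleton_HU_X₃ _ _ _ (S m) (hS m) U (i + 1) h1 h2
  have hsurj := SiteBase.surjective_sections_of_HU_one (hS j) U (hZ j 1 le_rfl)
  haveI : PreservesLimitsOfShape WalkingParallelPair
      ((sheafSections (Opens.grothendieckTopology X) AddCommGrpCat.{u}).obj (op U)) :=
    inferInstanceAs (PreservesLimitsOfShape WalkingParallelPair
      (sheafToPresheaf (Opens.grothendieckTopology X) AddCommGrpCat.{u} ⋙ (evaluation _ _).obj (op U)))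
  let Γ := (sheafSections (Opens.grothendieckTopology X) AddCommGrpCat.{u}).obj (op U)
  have hk : ∃ z, (Γ.map (kernel.ι (K.d (j + 1) (j + 2)))).hom z = s := by
    have hex : (ShortComplex.mk (Γ.map (kernel.ι (K.d (j + 1) (j + 2)))) (Γ.map (K.d (j + 1) (j + 2)))
        (by rw [← Γ.map_comp, kernel.condition, Γ.map_zero])).Exact :=
      ShortComplex.exact_of_f_is_kernel _ (isLimitForkMapOfIsLimit' Γ (kernel.condition _) (kernelIsKernel _))
    rw [ShortComplex.ab_exact_iff] at hex
    exact hex s hs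
  obtain ⟨z, hz⟩ := hk
  obtain ⟨t, ht⟩ := hsurj z
  refine ⟨t, ?_⟩
  rw [← hz, ← ht]
  show _ = ((S j).g.hom.app (op U) ≫ (kernel.ι (K.d (j + 1) (j + 2))).hom.app (op U)).hom t
  have := congrArg (fun f : K.X j ⟶ K.X (j + 1) => (f.hom.app (op U)).hom t)
    (kernel.lift_ι (K.d (j + 1) (j + 2)) (K.d j (j + 1)) (K.d_comp_d _ _ _))
  exact this.symm

end Groth.Agent.MiscTwoH99.TowerLim
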