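import Groth.Agent.MiscTwoH99.TowerLim.Inj
import Groth.Agent.MiscTwoH99.TowerLim.Sheaf
import Groth.Agent.S14616
import Mathlib.CategoryTheory.Abelian.RightDerived
import Mathlib.CategoryTheory.CofilteredSystem

/-!
# Vanishing of higher derived limits of sheaves of modules
-/

set_option autoImplicit false
set_option linter.style.haveILetI false

universe u

open CategoryTheory CategoryTheory.Limits Opposite TopologicalSpace

namespace Groth.Agent.MiscTwoH99.TowerLim

/-- Compatible lifts along a tower of exact pairs. -/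
theorem exists_compatible {A B C : ℕ → Type u} [∀ n, AddCommGroup (A n)] [∀ n, AddCommGroup (B n)]
    [∀ n, AddCommGroup (C n)] (πA : ∀ n, A (n + 1) →+ A n) (πB : ∀ n, B (n + 1) →+ B n)
    (πC : ∀ n, C (n + 1) →+ C n) (d : ∀ n, A n →+ B n) (e : ∀ n, B n →+ C n)
    (hd : ∀ n a, πB n (d (n + 1) a) = d n (πA n a)) (he : ∀ n b, πC n (e (n + 1) b) = e n (πB n b))
    (hde : ∀ n a, e n (d n a) = 0) (hex : ∀ n b, e n b = 0 → ∃ a, d n a = b)
    (hA : Function.Surjective (Formal2.towerDiff A πA))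
    (s : ∀ n, C n) (hs : ∀ n, πC n (s (n + 1)) = s n) (hl : ∀ n, ∃ b, e n b = s n) :
    ∃ t : ∀ n, B n, (∀ n, πB n (t (n + 1)) = t n) ∧ ∀ n, e n (t n) = s n := by
  choose t' ht' using hl
  have h1 : ∀ n, ∃ a, d n a = πB n (t' (n + 1)) - t' n := fun n => hex n _ (by
    rw [map_sub, ← he, ht', hs, ht', sub_self])
  choose a ha using h1
  obtain ⟨g, hg⟩ := hA a
  refine ⟨fun n => t' n + d n (g n), fun n => ?_, fun n => by rw [map_add, ht', hde, add_zero]⟩
  have h2 : g n - πA n (g (n + 1)) = a n := congrFun hg n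
  show πB n (t' (n + 1) + d (n + 1) (g (n + 1))) = t' n + d n (g n)
  rw [map_add, hd, eq_add_of_sub_eq h2, map_add, ha]
  abel

/-- A tower with surjective transition maps has no first derived limit. -/
theorem towerDiff_surjective {A : ℕ → Type u} [∀ n, AddCommGroup (A n)] (πA : ∀ n, A (n + 1) →+ A n)
    (h : ∀ n, Function.Surjective (πA n)) : Function.Surjective (Formal2.towerDiff A πA) := by
  intro a
  choose l hl using h
  let x : ∀ n, A n := fun n => Nat.rec (motive := A) 0 (fun m xm => l m (xm - a m)) n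
  refine ⟨x, funext fun n => ?_⟩
  show x n - πA n (l n (x n - a n)) = a n
  rw [hl, sub_sub_cancel]

variable {X : TopCat.{u}} {R : Sheaf (Opens.grothendieckTopology X) RingCat.{u}}

/-- Sections over an open. -/
noncomputable abbrev sectFun (U : Opens X) :=
  SheafOfModules.evaluation.{u} R (op U)

theorem lim_sections_ext (G : ℕᵒᵖ ⥤ SheafOfModules.{u} R) (U : Opens X)
    (x y : (limit G).val.obj (op U))
    (h : ∀ n, ((limit.π G (op n)).val.app (op U)).hom x = ((limit.π G (op n)).val.app (op U)).hom y) :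
    x = y :=
  Concrete.isLimit_ext _ (isLimitOfPreserves (sectFun U) (limit.isLimit G)) x y (fun j => h j.unop)

theorem exists_lim_sections (G : ℕᵒᵖ ⥤ SheafOfModules.{u} R) (U : Opens X)
    (t : ∀ n : ℕ, (G.obj (op n)).val.obj (op U))
    (ht : ∀ n, ((G.map (homOfLE (Nat.le_succ n)).op).val.app (op U)).hom (t (n + 1)) = t n) :
    ∃ T : (limit G).val.obj (op U), ∀ n, ((limit.π G (op n)).val.app (op U)).hom T = t n := by
  have hc := isLimitOfPreserves (forget _) (isLimitOfPreserves (sectFun U) (limit.isLimit G))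
  have hcompat : ∀ (a b : ℕ) (h : a ≤ b),
      ((G ⋙ sectFun U).map (homOfLE h).op).hom (t b) = t a := by
    intro a b h
    induction h with
    | refl =>
      rw [show (homOfLE (le_refl a)).op = 𝟙 (op a) from rfl, CategoryTheory.Functor.map_id]
      rfl
    | @step b h ih =>
      rw [show (homOfLE (Nat.le.step h)).op = (homOfLE (Nat.le_succ b)).op ≫ (homOfLE h).op from rfl,
        Functor.map_comp, ← ih]
      exact congrArg _ (ht b)
  let σ : ((G ⋙ sectFun U) ⋙ forget _).sections :=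
    ⟨fun j => t j.unop, fun {j j'} f => hcompat j'.unop j.unop (leOfHom f.unop)⟩
  refine ⟨(Types.isLimitEquivSections hc).symm σ, fun n => ?_⟩
  exact Types.isLimitEquivSections_symm_apply hc σ (op n)

/-- Evaluation at a stage, as abelian sheaves. -/
noncomputable abbrev stageFun (R : Sheaf (Opens.grothendieckTopology X) RingCat.{u}) (n : ℕ) :
    (ℕᵒᵖ ⥤ SheafOfModules.{u} R) ⥤ CohTop.Ab X :=
  (evaluation _ _).obj (op n) ⋙ SheafOfModules.toSheaf R

variable {E : ℕᵒᵖ ⥤ SheafOfModules.{u} R} (I : InjectiveResolution E)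

/-- The components of the differentials. -/
noncomputable abbrev dE (j n : ℕ) (U : Opens X) :
    ((I.cocomplex.X j).obj (op n)).val.obj (op U) →+ ((I.cocomplex.X (j + 1)).obj (op n)).val.obj (op U) :=
  (((I.cocomplex.d j (j + 1)).app (op n)).val.app (op U)).hom.toAddMonoidHom

/-- The transition maps. -/
noncomputable abbrev tE (G : ℕᵒᵖ ⥤ SheafOfModules.{u} R) (n : ℕ) (U : Opens X) :
    (G.obj (op (n + 1))).val.obj (op U) →+ (G.obj (op n)).val.obj (op U) :=
  ((G.map (homOfLE (Nat.le_succ n)).op).val.app (op U)).hom.toAddMonoidHom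

theorem naturality_sections {G H : ℕᵒᵖ ⥤ SheafOfModules.{u} R} (φ : G ⟶ H) (n : ℕ) (U : Opens X)
    (a : (G.obj (op (n + 1))).val.obj (op U)) :
    tE H n U (((φ.app (op (n + 1))).val.app (op U)).hom a) = ((φ.app (op n)).val.app (op U)).hom (tE G n U a) :=
  (congrArg (fun f : G.obj (op (n + 1)) ⟶ H.obj (op n) => (f.val.app (op U)).hom a)
    (φ.naturality (homOfLE (Nat.le_succ n)).op)).symm

theorem tE_surjective (G : ℕᵒᵖ ⥤ SheafOfModules.{u} R) [Injective G] (n : ℕ) (U : Opens X) :
    Function.Surjective (tE G n U) := fun y => by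
  obtain ⟨s, hs⟩ := exists_section G (homOfLE (Nat.le_succ n)).op
  exact ⟨(s.val.app (op U)).hom y, congrArg (fun f : G.obj (op n) ⟶ G.obj (op n) => (f.val.app (op U)).hom y) hs⟩

theorem isFlasque_stage (j n : ℕ) :
    TopCat.Sheaf.IsFlasque ((stageFun R n).obj (I.cocomplex.X j) : CohTop.Ab X) := by
  exact @isFlasque_of_injective _ _ ((I.cocomplex.X j).obj (op n)) (injective_obj _ _)

theorem exact_stage (n j : ℕ) :
    ((ShortComplex.mk _ _ (I.cocomplex.d_comp_d j (j + 1) (j + 2))).map (stageFun R n)).Exact := by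
  exact ((I.exact_succ j).map ((evaluation _ _).obj (op n))).map (SheafOfModules.toSheaf R)

theorem exact_stage₀ (n : ℕ) :
    ∃ (h : (stageFun R n).map (I.ι.f 0) ≫ (stageFun R n).map (I.cocomplex.d 0 1) = 0),
      (ShortComplex.mk _ _ h).Exact ∧ Mono ((stageFun R n).map (I.ι.f 0)) :=
  ⟨_, (I.exact₀.map ((evaluation _ _).obj (op n))).map (SheafOfModules.toSheaf R), inferInstance⟩

theorem dE_exact (n j : ℕ) (U : Opens X)
    (ha : ∀ i, 1 ≤ i → Subsingleton (CohTop.HU ((SheafOfModules.toSheaf R).obj (E.obj (op n))) i U))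
    (s : ((I.cocomplex.X (j + 1)).obj (op n)).val.obj (op U)) (hs : dE I (j + 1) n U s = 0) :
    ∃ t, dE I j n U t = s := by
  let K := ((stageFun R n).mapHomologicalComplex (ComplexShape.up ℕ)).obj I.cocomplex
  obtain ⟨w, hex, hmono⟩ := exact_stage₀ I n
  let eF : (SheafOfModules.toSheaf R).obj (E.obj (op n)) ≅ kernel (K.d 0 1) :=
    IsLimit.conePointUniqueUpToIso hex.fIsKernel (limit.isLimit _)
  refine exact_sections K (fun m => ?_) (fun m => isFlasque_stage I m n) eF U ha j s hs
  rw [HomologicalComplex.exactAt_iff' _ m (m + 1) (m + 2) (by simp) (by simp only [CochainComplex.next]; rfl)]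
  exact exact_stage I n m

theorem dE_exact₀ (n : ℕ) (U : Opens X) (b : ((I.cocomplex.X 0).obj (op n)).val.obj (op U))
    (hb : dE I 0 n U b = 0) :
    ∃ a : (E.obj (op n)).val.obj (op U), (((I.ι.f 0).app (op n)).val.app (op U)).hom a = b := by
  obtain ⟨w, hex, hmono⟩ := exact_stage₀ I n
  haveI : PreservesLimitsOfShape WalkingParallelPair
      ((sheafSections (Opens.grothendieckTopology X) AddCommGrpCat.{u}).obj (op U)) :=
    inferInstanceAs (PreservesLimitsOfShape WalkingParallelPair
      (sheafToPresheaf (Opens.grothendieckTopology X) AddCommGrpCat.{u} ⋙ (evaluation _ _).obj (op U)))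
  let Γ := (sheafSections (Opens.grothendieckTopology X) AddCommGrpCat.{u}).obj (op U)
  have h : (ShortComplex.mk (Γ.map ((stageFun R n).map (I.ι.f 0))) (Γ.map ((stageFun R n).map (I.cocomplex.d 0 1)))
      (by rw [← Γ.map_comp, w, Γ.map_zero])).Exact :=
    ShortComplex.exact_of_f_is_kernel _ (isLimitForkMapOfIsLimit' Γ w hex.fIsKernel)
  rw [ShortComplex.ab_exact_iff] at h
  exact h b hb

theorem isZero_rightDerived [(lim : (ℕᵒᵖ ⥤ SheafOfModules.{u} R) ⥤ SheafOfModules.{u} R).Additive]
    [HasInjectiveResolutions (ℕᵒᵖ ⥤ SheafOfModules.{u} R)]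
    (B : Set (Opens X)) (hB : Opens.IsBasis B) (j : ℕ)
    (h : ∀ U ∈ B, ∀ s : ∀ n, ((I.cocomplex.X (j + 1)).obj (op n)).val.obj (op U),
      (∀ n, tE (I.cocomplex.X (j + 1)) n U (s (n + 1)) = s n) → (∀ n, dE I (j + 1) n U (s n) = 0) →
      ∃ t : ∀ n, ((I.cocomplex.X j).obj (op n)).val.obj (op U),
        (∀ n, tE (I.cocomplex.X j) n U (t (n + 1)) = t n) ∧ ∀ n, dE I j n U (t n) = s n) :
    IsZero (((lim : (ℕᵒᵖ ⥤ SheafOfModules.{u} R) ⥤ SheafOfModules.{u} R).rightDerived (j + 1)).obj E) := by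
  refine IsZero.of_iso ?_ (I.isoRightDerivedObj lim (j + 1))
  let K := ((lim : (ℕᵒᵖ ⥤ SheafOfModules.{u} R) ⥤ SheafOfModules.{u} R).mapHomologicalComplex
    (ComplexShape.up ℕ)).obj I.cocomplex
  show IsZero (K.homology (j + 1))
  rw [← HomologicalComplex.exactAt_iff_isZero_homology,
    HomologicalComplex.exactAt_iff' _ j (j + 1) (j + 2) (by simp) (by simp only [CochainComplex.next]; rfl)]
  refine exact_of_locally _ fun W s hs x hx => ?_
  obtain ⟨U, hUB, hxU, hUW⟩ := Opens.isBasis_iff_nbhd.1 hB hx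
  have hU : U ≤ W := hUW
  let s' : (limit (I.cocomplex.X (j + 1))).val.obj (op U) :=
    (limit (I.cocomplex.X (j + 1))).val.map (homOfLE hU).op s
  let sn := fun n => ((limit.π (I.cocomplex.X (j + 1)) (op n)).val.app (op U)).hom s'
  have hs' : ((limMap (I.cocomplex.d (j + 1) (j + 2))).val.app (op U)).hom s' = 0 := by
    refine (PresheafOfModules.naturality_apply (limMap (I.cocomplex.d (j + 1) (j + 2))).val (homOfLE hU).op s).trans ?_
    exact (congrArg _ hs).trans (map_zero _)
  obtain ⟨t, ht, hdt⟩ := h U hUB sn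
    (fun n => congrArg (fun f : limit (I.cocomplex.X (j + 1)) ⟶ (I.cocomplex.X (j + 1)).obj (op n) =>
      (f.val.app (op U)).hom s') (limit.w (I.cocomplex.X (j + 1)) (homOfLE (Nat.le_succ n)).op))
    (fun n => by
      refine ((congrArg (fun f : limit (I.cocomplex.X (j + 1)) ⟶ (I.cocomplex.X (j + 2)).obj (op n) =>
        (f.val.app (op U)).hom s') (limMap_π (I.cocomplex.d (j + 1) (j + 2)) (op n))).symm).trans ?_
      exact (congrArg _ hs').trans (map_zero ((limit.π (I.cocomplex.X (j + 2)) (op n)).val.app (op U)).hom))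
  obtain ⟨T, hT⟩ := exists_lim_sections (I.cocomplex.X j) U t ht
  refine ⟨U, hU, T, hxU, ?_⟩
  refine lim_sections_ext (I.cocomplex.X (j + 1)) U _ _ fun n => ?_
  refine ((congrArg (fun f : limit (I.cocomplex.X j) ⟶ (I.cocomplex.X (j + 1)).obj (op n) =>
    (f.val.app (op U)).hom T) (limMap_π (I.cocomplex.d j (j + 1)) (op n)))).trans ?_
  exact (congrArg _ (hT n)).trans (hdt n)

theorem towerDiff_surjective_of_ml (U : Opens X)
    (hml : (E ⋙ SheafOfModules.toSheaf R ⋙
        (sheafSections (Opens.grothendieckTopology X) AddCommGrpCat.{u}).obj (op U) ⋙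
          forget AddCommGrpCat.{u}).IsMittagLeffler) :
    Function.Surjective (Formal2.towerDiff (fun n => (E.obj (op n)).val.obj (op U)) (fun n => tE E n U)) := by
  refine Groth.Agent.S14616.result _ _ ?_
  let F := E ⋙ SheafOfModules.toSheaf R ⋙ (sheafSections (Opens.grothendieckTopology X) AddCommGrpCat.{u}).obj (op U)
  let F' : ℕᵒᵖ ⥤ AddCommGrpCat.{u} :=
    CategoryTheory.Functor.ofOpSequence (X := fun n => AddCommGrpCat.of ((E.obj (op n)).val.obj (op U)))
      (fun n => AddCommGrpCat.ofHom (tE E n U))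
  have key : ∀ (b a : ℕ) (h : b ≤ a), F'.map (homOfLE h).op = F.map (homOfLE h).op := by
    intro b a h
    induction h with
    | refl =>
      rw [show (homOfLE (le_refl b)).op = 𝟙 (op b) from rfl, F'.map_id, F.map_id]
      rfl
    | @step a h ih =>
      rw [show (homOfLE (Nat.le.step h)).op = (homOfLE (Nat.le_succ a)).op ≫ (homOfLE h).op from rfl,
        F'.map_comp, F.map_comp, ih]
      simp only [F', CategoryTheory.Functor.ofOpSequence_map_homOfLE_succ]
      rfl
  have hF : F' = F := by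
    refine CategoryTheory.Functor.ext (fun j => rfl) fun a b f => ?_
    obtain ⟨a⟩ := a
    obtain ⟨b⟩ := b
    obtain ⟨g⟩ := f
    have hab : b ≤ a := leOfHom g
    obtain rfl : g = homOfLE hab := Subsingleton.elim _ _
    simp only [eqToHom_refl, Category.id_comp, Category.comp_id]
    exact key b a hab
  show (F' ⋙ forget AddCommGrpCat.{u}).IsMittagLeffler
  rw [hF]
  exact hml

theorem isZero_rightDerived_of_acyclic [(lim : (ℕᵒᵖ ⥤ SheafOfModules.{u} R) ⥤ SheafOfModules.{u} R).Additive]
    [HasInjectiveResolutions (ℕᵒᵖ ⥤ SheafOfModules.{u} R)]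
    (E : ℕᵒᵖ ⥤ SheafOfModules.{u} R) (B : Set (Opens X)) (hB : Opens.IsBasis B)
    (ha : ∀ U ∈ B, ∀ (n i : ℕ), 1 ≤ i →
      Subsingleton (CohTop.HU ((SheafOfModules.toSheaf R).obj (E.obj (op n))) i U)) (i : ℕ) (hi : 1 ≤ i)
    (hml : i = 1 → ∀ U ∈ B, (E ⋙ SheafOfModules.toSheaf R ⋙
        (sheafSections (Opens.grothendieckTopology X) AddCommGrpCat.{u}).obj (op U) ⋙
          forget AddCommGrpCat.{u}).IsMittagLeffler) :
    IsZero (((lim : (ℕᵒᵖ ⥤ SheafOfModules.{u} R) ⥤ SheafOfModules.{u} R).rightDerived i).obj E) := by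
  let I := Classical.choice (HasInjectiveResolution.out (Z := E))
  obtain ⟨j, rfl⟩ : ∃ k, i = k + 1 := ⟨i - 1, by omega⟩
  refine isZero_rightDerived I B hB j fun U hU s hs hds => ?_
  have hlift : ∀ n, ∃ t, dE I j n U t = s n := fun n => dE_exact I n j U (fun k hk => ha U hU n k hk) _ (hds n)
  cases j with
  | zero =>
    refine exists_compatible (A := fun n => (E.obj (op n)).val.obj (op U)) (fun n => tE E n U) (fun n => tE (I.cocomplex.X 0) n U)
      (fun n => tE (I.cocomplex.X 1) n U)
      (fun n => (((I.ι.f 0).app (op n)).val.app (op U)).hom.toAddMonoidHom) (fun n => dE I 0 n U)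
      (fun n a => naturality_sections (I.ι.f 0) n U a) (fun n b => naturality_sections (I.cocomplex.d 0 1) n U b)
      (fun n a => ?_) (fun n b hb => dE_exact₀ I n U b hb) (towerDiff_surjective_of_ml U (hml rfl U hU)) s hs hlift
    exact congrArg (fun f : E ⟶ I.cocomplex.X 1 => ((f.app (op n)).val.app (op U)).hom a) I.ι_f_zero_comp_complex_d
  | succ m =>
    refine exists_compatible (fun n => tE (I.cocomplex.X m) n U) (fun n => tE (I.cocomplex.X (m + 1)) n U)
      (fun n => tE (I.cocomplex.X (m + 2)) n U) (fun n => dE I m n U) (fun n => dE I (m + 1) n U)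
      (fun n a => naturality_sections (I.cocomplex.d m (m + 1)) n U a)
      (fun n b => naturality_sections (I.cocomplex.d (m + 1) (m + 2)) n U b)
      (fun n a => congrArg (fun f : I.cocomplex.X m ⟶ I.cocomplex.X (m + 2) => ((f.app (op n)).val.app (op U)).hom a)
        (I.cocomplex.d_comp_d m (m + 1) (m + 2)))
      (fun n b hb => dE_exact I n m U (fun k hk => ha U hU n k hk) b hb)
      (towerDiff_surjective _ fun n => tE_surjective _ n U) s hs hlift

end Groth.Agent.MiscTwoH99.TowerLim
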